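import Groth.Agent.Fano.K130.StIdeal
import Groth.Agent.Variety.K433.GenFinite
import Groth.Agent.Etcore.CurveTop
import Groth.Agent.Surf.K456.FlatCurve
import Groth.Agent.S1561

/-!
# Sections of a generated invertible module on a reduced curve with few zeros

* `exists_avoid`: over an algebraically closed field, a section generating at a given finite set of points, at the
  singular points and at the generic points; its zeros are finitely many smooth closed points, with multiplicities.
-/

set_option autoImplicit false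

universe u

open CategoryTheory CategoryTheory.Limits AlgebraicGeometry TopologicalSpace Opposite

namespace K130.Avoid

open Groth.Agent Groth.Agent.Fdesc.LocGen K188.MapP1 K130.StIdeal

variable (k : Type u) [Field k] {X : Scheme.{u}} [X.Over (Spec (CommRingCat.of k))] {B : X.Modules}

include k in
theorem exists_gen_finite [Infinite k] (hB : PicF.IsInvertible B) (hg : ∀ x : X, ∃ t : Γ(B, ⊤), x ∈ gl t) (Z : Set X)
    (hZ : Z.Finite) : ∃ s : Γ(B, ⊤), Z ⊆ gl s := by
  have key : ∃ s : Coh.structureModule X ⟶ B, Z ⊆ CohB1.genLocus B s := by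
    induction Z, hZ using Set.Finite.induction_on with
    | empty => exact ⟨0, Set.empty_subset _⟩
    | @insert x Z _ hZ ih =>
      obtain ⟨s, hs⟩ := ih
      obtain ⟨t, ht⟩ := hg x
      have hfin : (⋃ z ∈ insert x Z, {a : k | z ∉ CohB1.genLocus B (K433.GenFinite.comb k s (homOf t) a)}).Finite := by
        refine Set.Finite.biUnion (hZ.insert x) fun z hz => ?_
        refine (K433.GenFinite.subsingleton_bad k hB s (homOf t) z ?_).finite
        rcases hz with rfl | hz
        · exact Or.inr ht
        · exact Or.inl (hs hz)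
      obtain ⟨a, ha⟩ := hfin.exists_notMem
      refine ⟨K433.GenFinite.comb k s (homOf t) a, fun z hz => ?_⟩
      by_contra h
      exact ha (Set.mem_biUnion hz h)
  obtain ⟨s, hs⟩ := key
  refine ⟨sec s ⊤, ?_⟩
  change Z ⊆ (CohB1.genLocus B (homOf (sec s ⊤)) : Set X)
  rwa [homOf_sec]

omit [X.Over (Spec (CommRingCat.of k))] in
theorem inter_nonempty_of_dense [IsNoetherian X] {U : X.Opens} (hU : Dense (U : Set X)) :
    ∀ C ∈ irreducibleComponents X, ((U : Set X) ∩ C).Nonempty := by
  intro C hC
  obtain ⟨o, ho, hne, hoC⟩ := NoetherianSpace.exists_isOpen_nonempty_subset_irreducibleComponent C hC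
  obtain ⟨x, hx, hx'⟩ := hU.inter_open_nonempty o ho hne
  exact ⟨x, hx', hoC hx⟩

/-- Sections with few zeros. -/
theorem exists_avoid [IsAlgClosed k] [IsNoetherian X] [IsReduced X] [LocallyOfFiniteType (X ↘ Spec (CommRingCat.of k))]
    [LocallyOfFinitePresentation (X ↘ Spec (CommRingCat.of k))]
    (hdim : topologicalKrullDim X ≤ 1) (hB : PicF.IsInvertible B) (hg : ∀ x : X, ∃ t : Γ(B, ⊤), x ∈ gl t)
    (Z : Set X) (hZ : Z.Finite) :
    ∃ s : Γ(B, ⊤), Z ⊆ gl s ∧ ((gl s : Set X)ᶜ).Finite ∧ (∀ x ∉ gl s, IsClosed ({x} : Set X)) ∧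
      (∀ x ∉ gl s, x ∈ (X ↘ Spec (CommRingCat.of k)).smoothLocus) ∧
      ∀ x ∈ (X ↘ Spec (CommRingCat.of k)).smoothLocus, ∃ a : ℕ,
        St s x (IsLocalRing.maximalIdeal (X.presheaf.stalk x) ^ a) := by
  have hsm := S1561.result k X
  have h1 := Etcore.CurveTop.compl_finite X hdim _ (inter_nonempty_of_dense hsm.2)
  have hfin : (irreducibleComponents (X : Type u)).Finite := NoetherianSpace.finite_irreducibleComponents
  let g : irreducibleComponents (X : Type u) → X := fun C => C.2.1.genericPoint
  have hgfin : (Set.range g).Finite := by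
    have := hfin.to_subtype
    exact Set.finite_range g
  have hgmem : ∀ C : irreducibleComponents (X : Type u), closure {g C} = C.1 := by
    intro C
    have h := C.2.1.genericPoint_closure_eq
    rw [h, (isClosed_of_mem_irreducibleComponents C.1 C.2).closure_eq]
  obtain ⟨s, hs⟩ := exists_gen_finite k hB hg (Z ∪ ((X ↘ Spec (CommRingCat.of k)).smoothLocus : Set X)ᶜ ∪ Set.range g)
    ((hZ.union h1.1).union hgfin)
  have hs1 : Z ⊆ gl s := fun x hx => hs (Or.inl (Or.inl hx))
  have hs2 : ∀ x ∉ gl s, x ∈ (X ↘ Spec (CommRingCat.of k)).smoothLocus := by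
    intro x hx
    by_contra h
    exact hx (hs (Or.inl (Or.inr h)))
  have hs3 : ∀ C, g C ∈ gl s := fun C => hs (Or.inr ⟨C, rfl⟩)
  have h2 := Etcore.CurveTop.compl_finite X hdim (gl s) (fun C hC => ⟨g ⟨C, hC⟩, hs3 _, by
    have h := hgmem ⟨C, hC⟩
    exact h.subset (subset_closure rfl)⟩)
  refine ⟨s, hs1, h2.1, h2.2, hs2, fun x hx => ?_⟩
  have hreg : IsRegularLocalRing (X.presheaf.stalk x) := (hsm.1 x).1 hx
  have hdom : IsDomain (X.presheaf.stalk x) := S0558.result _
  have hpir : IsPrincipalIdealRing (X.presheaf.stalk x) := K456.FlatCurve.isPrincipalIdealRing_of_regular _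
    ((Groth.Agent.CurvesA.DimOne.ringKrullDim_stalk_le X x).trans hdim)
  obtain ⟨C, hC, hxC⟩ := exists_mem_irreducibleComponents_subset_of_isIrreducible ({x} : Set X) isIrreducible_singleton
  refine exists_pow hB (η := g ⟨C, hC⟩) ?_ (hs3 _)
  rw [specializes_iff_mem_closure, hgmem]
  exact hxC rfl

end K130.Avoid
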