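import Groth.Agent.Fano.K188.LinFun
import Groth.Agent.S0024

/-!
# Morphisms from the projective line which pull back `O(1)` to a trivial module are constant
-/

set_option autoImplicit false

universe u

open CategoryTheory CategoryTheory.Limits AlgebraicGeometry TopologicalSpace Opposite

namespace K130.ConstP1

open Groth.Agent Groth.Agent.Fdesc.LocGen Groth.Agent.Dix.ProjProper K188.MapP1 K188.LinFun K390.PnSec
open Groth.Agent.Ega2.H295.PnUniq Groth.Agent.Ega2.H295.PnCoord

variable {k Ω : Type u} [Field k] [Field Ω] {n : ℕ}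

/-- A morphism from the projective line to projective space for which a section of the pullback of `O(1)` generates is
constant. -/
theorem exists_eq (g : CohB1.ProjSpace 1 Ω ⟶ CohB1.ProjSpace n k)
    (τ : Spec (CommRingCat.of Ω) ⟶ Spec (CommRingCat.of k))
    (hg : g ≫ CohB1.ProjSpace.toSpec n k = CohB1.ProjSpace.toSpec 1 Ω ≫ τ)
    (v : Γ((Scheme.Modules.pullback g).obj (O1 n k), ⊤)) (hv : IsGen v) :
    ∃ r : Spec (CommRingCat.of Ω) ⟶ CohB1.ProjSpace n k, g = CohB1.ProjSpace.toSpec 1 Ω ≫ r := by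
  obtain ⟨e, -⟩ := exists_iso_of_isGen hv
  have hG := (GivenBy.refl g).of_iso e
  let h : Fin (n + 1) → Γ(CohB1.ProjSpace 1 Ω, ⊤) := fun i => ofFun.symm (e.hom.app ⊤ (tsec g i))
  have hh : ∀ i, e.hom.app ⊤ (tsec g i) = ofFun (h i) := fun i => (ofFun.apply_symm_apply _).symm
  have hiso : IsIso (CohB1.ProjSpace.toSpec 1 Ω).appTop := S0024.result 1 Ω
  have hbij : Function.Bijective (CohB1.ProjSpace.toSpec 1 Ω).appTop := ConcreteCategory.bijective_of_isIso _
  choose c hc using fun i => hbij.2 (h i)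
  have hG' : GivenBy g (Coh.structureModule _) (fun i => ofFun (h i)) := by
    have h1 : (fun i => e.hom.app ⊤ (tsec g i)) = fun i => ofFun (h i) := funext hh
    rwa [h1] at hG
  have hcov := hG'.iSup_genLocus
  have hne : Nonempty (CohB1.ProjSpace 1 Ω) := by
    by_contra hcon
    rw [not_nonempty_iff] at hcon
    have h1 : Subsingleton Γ(CohB1.ProjSpace 1 Ω, ⊤) := inferInstance
    have h2 : Subsingleton Γ(Spec (CommRingCat.of Ω), ⊤) := hbij.1.subsingleton
    have h3 : Subsingleton Ω := (Scheme.ΓSpecIso (CommRingCat.of Ω)).commRingCatIsoToRingEquiv.symm.injective.subsingleton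
    exact false_of_nontrivial_of_subsingleton Ω
  obtain ⟨x⟩ := hne
  have hx : x ∈ ⨆ i, CohB1.genLocus _ (homOf (ofFun (h i) : Γ(Coh.structureModule (CohB1.ProjSpace 1 Ω), ⊤))) := by
    rw [hcov]; trivial
  rw [Opens.mem_iSup] at hx
  obtain ⟨i, hi⟩ := hx
  have hci : c i ≠ 0 := by
    intro h0
    have h1 : h i = 0 := by rw [← hc i, h0, map_zero]
    have h2 : x ∈ gl (ofFun (h i) : Γ(Coh.structureModule (CohB1.ProjSpace 1 Ω), ⊤)) := hi
    have hxt : x ∈ (⊤ : (CohB1.ProjSpace 1 Ω).Opens) := trivial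
    rw [mem_gl_iff (isGen_one ⊤) (a := h i) (by rw [res_refl, ofFun_eq_smul]) hxt, h1,
      Scheme.mem_basicOpen _ _ _ hxt, map_zero] at h2
    exact not_isUnit_zero h2
  have hu : IsUnit (c i) := by
    let E := (Scheme.ΓSpecIso (CommRingCat.of Ω)).commRingCatIsoToRingEquiv
    have h1 : E (c i) ≠ 0 := by
      rw [Ne, map_eq_zero_iff E E.injective]
      exact hci
    exact (MulEquiv.isUnit_map E).1 (isUnit_iff_ne_zero.2 h1)
  obtain ⟨r, hr, hr'⟩ := exists_givenBy (n := n) (R := k) τ (M := Coh.structureModule (Spec (CommRingCat.of Ω)))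
    (fun i => ofFun (c i)) (by
      rw [eq_top_iff]
      refine le_trans ?_ (le_iSup _ i)
      rw [le_genLocus_iff, sec_homOf, res_refl, ofFun_eq_smul]
      exact (isGen_one ⊤).unit_smul hu)
  refine ⟨r, ?_⟩
  have h5 := givenBy_ofFun_comp hr' (CohB1.ProjSpace.toSpec 1 Ω)
  have h6 : (fun a => (ofFun ((CohB1.ProjSpace.toSpec 1 Ω).appTop (c a)) :
      Γ(Coh.structureModule (CohB1.ProjSpace 1 Ω), ⊤))) = fun i => ofFun (h i) := by
    funext a
    rw [hc a]
  rw [h6] at h5
  exact hG'.unique h5 (by rw [hg, Category.assoc, hr])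

/-- A morphism from the projective line to projective space for which a section of the pullback of `O(1)` generates has
one point as image. -/
theorem range_subsingleton (g : CohB1.ProjSpace 1 Ω ⟶ CohB1.ProjSpace n k)
    (τ : Spec (CommRingCat.of Ω) ⟶ Spec (CommRingCat.of k))
    (hg : g ≫ CohB1.ProjSpace.toSpec n k = CohB1.ProjSpace.toSpec 1 Ω ≫ τ)
    (v : Γ((Scheme.Modules.pullback g).obj (O1 n k), ⊤)) (hv : IsGen v) : (Set.range g).Subsingleton := by
  obtain ⟨r, rfl⟩ := exists_eq g τ hg v hv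
  rintro _ ⟨x, rfl⟩ _ ⟨y, rfl⟩
  rw [Scheme.Hom.comp_apply, Scheme.Hom.comp_apply]
  congr 1
  exact Subsingleton.elim _ _

end K130.ConstP1
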