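import Groth.Agent.Fano.K130.StIdeal
import Groth.Agent.Divis.CartierStalk
import Mathlib.AlgebraicGeometry.AlgClosed.Basic

/-!
# The divisor of a section of an invertible module on a scheme over an algebraically closed field

* `stalkIdeal_dI_apply`, `stalkIdeal_dI_of_ne`: the stalks of the ideal `dI y a` of a combination of distinct rational points;
* `isO_dI`: the divisor of a section whose zeros are among the points `y`.
-/

set_option autoImplicit false

universe u

open CategoryTheory CategoryTheory.Limits AlgebraicGeometry TopologicalSpace Opposite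

namespace K130.PtDiv

open Groth.Agent Groth.Agent.Fdesc.LocGen Groth.Agent.Divis.CartierBasic K188.MapP1 K723.LinDef K130.StIdeal

theorem stalkIdeal_prod {X : Scheme.{u}} {ι : Type*} (s : Finset ι) (D : ι → X.IdealSheafData) (x : X) :
    stalkIdeal (∏ i ∈ s, D i) x = ∏ i ∈ s, stalkIdeal (D i) x := by
  classical
  induction s using Finset.induction_on with
  | empty =>
    rw [Finset.prod_empty, Finset.prod_empty, Ideal.one_eq_top, Scheme.IdealSheafData.one_eq_top, stalkIdeal_top]
  | insert i s hi ih => rw [Finset.prod_insert hi, Finset.prod_insert hi, stalkIdeal_mul, ih]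

section Field

variable {Ω : Type u} [Field Ω] {X : Scheme.{u}} (q : X ⟶ Spec (CommRingCat.of Ω)) [IsSeparated q]

theorem isClosedImmersion_sect (x : Spec (CommRingCat.of Ω) ⟶ X) (hx : x ≫ q = 𝟙 _) : IsClosedImmersion x := by
  have : IsClosedImmersion (x ≫ q) := by rw [hx]; infer_instance
  exact IsClosedImmersion.of_comp x q

omit [IsSeparated q] in
theorem stalkIdeal_ker_apply (x : Spec (CommRingCat.of Ω) ⟶ X) [IsClosedImmersion x] (z : Spec (CommRingCat.of Ω)) :
    stalkIdeal x.ker (x z) = IsLocalRing.maximalIdeal (X.presheaf.stalk (x z)) := by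
  rw [← Divis.CartierStalk.ker_stalkMap]
  have hf : IsField ((Spec (CommRingCat.of Ω)).presheaf.stalk z) := by
    refine isField_stalk_of_closure_mem_irreducibleComponents _ _ ?_
    have h1 : closure {z} = (Set.univ : Set (Spec (CommRingCat.of Ω))) :=
      Set.eq_univ_of_forall fun z' => by
        have : z' = z := Subsingleton.elim _ _
        rw [this]
        exact subset_closure rfl
    rw [h1, irreducibleComponents_eq_singleton]
    rfl
  have hb := IsLocalRing.isField_iff_maximalIdeal_eq.1 hf
  apply le_antisymm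
  · exact IsLocalRing.le_maximalIdeal (RingHom.ker_ne_top _)
  · intro a ha
    have h2 : (x.stalkMap z).hom a ∈ IsLocalRing.maximalIdeal _ := by
      rw [IsLocalRing.mem_maximalIdeal, mem_nonunits_iff] at ha ⊢
      exact fun h => ha (isUnit_of_map_unit _ a h)
    rw [hb] at h2
    exact h2

include q in
theorem stalkIdeal_ker_eq_top (x : Spec (CommRingCat.of Ω) ⟶ X) (hx : x ≫ q = 𝟙 _) (z : Spec (CommRingCat.of Ω))
    {y : X} (hy : y ≠ x z) : stalkIdeal x.ker y = ⊤ := by
  have hcl := isClosedImmersion_sect q x hx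
  rw [← notMem_support_iff_stalkIdeal_eq_top]
  intro h
  have h3 : y ∈ (x.ker.support : Set X) := h
  rw [Scheme.Hom.support_ker, IsClosed.closure_eq x.isClosedEmbedding.isClosed_range] at h3
  obtain ⟨z', rfl⟩ := h3
  have hz : z' = z := Subsingleton.elim _ _
  exact hy (by rw [hz])

variable {m : ℕ} (y : Fin m → (Spec (CommRingCat.of Ω) ⟶ X)) (hy : ∀ j, y j ≫ q = 𝟙 _)
  (z : Spec (CommRingCat.of Ω))

include q hy in
theorem stalkIdeal_dI_apply (hinj : Function.Injective fun j => y j z) (a : Fin m → ℕ) (j : Fin m) :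
    stalkIdeal (dI y a) (y j z) = IsLocalRing.maximalIdeal (X.presheaf.stalk (y j z)) ^ a j := by
  unfold dI
  rw [stalkIdeal_prod, Finset.prod_eq_single j]
  · have := isClosedImmersion_sect q (y j) (hy j)
    rw [stalkIdeal_pow, stalkIdeal_ker_apply]
  · intro l _ hl
    rw [stalkIdeal_pow, stalkIdeal_ker_eq_top q (y l) (hy l) z (fun h => hl (hinj h.symm)), Ideal.top_pow,
      Ideal.one_eq_top]
  · exact fun h => absurd (Finset.mem_univ j) h

include q hy in
theorem stalkIdeal_dI_of_ne (a : Fin m → ℕ) {x : X} (hx : ∀ j, x ≠ y j z) : stalkIdeal (dI y a) x = ⊤ := by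
  unfold dI
  rw [stalkIdeal_prod, ← Ideal.one_eq_top]
  refine Finset.prod_eq_one fun l _ => ?_
  rw [stalkIdeal_pow, stalkIdeal_ker_eq_top q (y l) (hy l) z (hx l), Ideal.top_pow, Ideal.one_eq_top]

include q hy in
/-- The divisor of a section whose zeros are among the points `y`. -/
theorem isO_dI (hinj : Function.Injective fun j => y j z) {L : X.Modules} (hL : PicF.IsInvertible L) {s : Γ(L, ⊤)}
    (hs : ∀ x : X, x ∉ gl s → ∃ j, y j z = x) (a : Fin m → ℕ)
    (ha : ∀ j, St s (y j z) (IsLocalRing.maximalIdeal (X.presheaf.stalk (y j z)) ^ a j)) : IsO (dI y a) L s := by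
  refine isO_of_st hL fun x => ?_
  by_cases hx : ∃ j, y j z = x
  · obtain ⟨j, rfl⟩ := hx
    rw [stalkIdeal_dI_apply q y hy z hinj]
    exact ha j
  · push Not at hx
    rw [stalkIdeal_dI_of_ne q y hy z a fun j h => hx j h.symm]
    obtain ⟨J, hJ⟩ := exists_st hL s x
    have h1 : x ∈ gl s := by
      by_contra h
      obtain ⟨j, hj⟩ := hs x h
      exact hx j hj
    rwa [(st_top_iff hL hJ).2 h1] at hJ

end Field

end K130.PtDiv
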