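import Groth.Prelude.Def_StCurv
import Groth.Agent.Fano.K130.PtDiv

/-!
# The marked points of the geometric fibres of a pointed family
-/

set_option autoImplicit false

universe u

open CategoryTheory CategoryTheory.Limits AlgebraicGeometry TopologicalSpace Opposite

namespace K130.MarkFib

variable {C T : Scheme.{u}} {f : C ⟶ T} {n n' : ℕ} (σ : Fin n → (T ⟶ C)) (hσ : ∀ j, σ j ≫ f = 𝟙 T)
  {Ω : Type u} [Field Ω] {t : Spec (CommRingCat.of Ω) ⟶ T} {X : Scheme.{u}} {i : X ⟶ C}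
  {q : X ⟶ Spec (CommRingCat.of Ω)} (hP : IsPullback i q f t)

theorem markedPt_congr (σ' : Fin n' → (T ⟶ C)) (hσ' : ∀ j, σ' j ≫ f = 𝟙 T) {j : Fin n} {j' : Fin n'}
    (h : σ j = σ' j') : CurvSt.markedPt σ hσ hP j = CurvSt.markedPt σ' hσ' hP j' := by
  unfold CurvSt.markedPt
  have key : ∀ (a b : T ⟶ C) (hab : a = b) (ha : (t ≫ a) ≫ f = 𝟙 _ ≫ t) (hb : (t ≫ b) ≫ f = 𝟙 _ ≫ t),
      hP.lift (t ≫ a) (𝟙 _) ha = hP.lift (t ≫ b) (𝟙 _) hb := by
    rintro a _ rfl _ _
    rfl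
  rw [key _ _ h]

/-- The section induced on a geometric fibre. -/
noncomputable def fsec (j : Fin n) : Spec (CommRingCat.of Ω) ⟶ X :=
  hP.lift (t ≫ σ j) (𝟙 _) (by rw [Category.assoc, hσ, Category.comp_id, Category.id_comp])

theorem fsec_q (j : Fin n) : fsec σ hσ hP j ≫ q = 𝟙 _ := hP.lift_snd _ _ _

theorem fsec_i (j : Fin n) : fsec σ hσ hP j ≫ i = t ≫ σ j := hP.lift_fst _ _ _

theorem isPullback_fsec (j : Fin n) : IsPullback t (fsec σ hσ hP j) (σ j) i := by
  have h1 : IsPullback (fsec σ hσ hP j ≫ q) t t (σ j ≫ f) := by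
    rw [fsec_q, hσ]
    exact IsPullback.of_horiz_isIso ⟨by simp⟩
  exact (IsPullback.of_right h1 (hP.lift_fst _ _ _) hP.flip).flip

theorem apply_markedPt (j : Fin n) : i (CurvSt.markedPt σ hσ hP j) = σ j (t (IsLocalRing.closedPoint Ω)) := by
  change i (fsec σ hσ hP j (IsLocalRing.closedPoint Ω)) = _
  rw [← Scheme.Hom.comp_apply, fsec_i, Scheme.Hom.comp_apply]

theorem eq_markedPt (j : Fin n) {z : X} {c : T} (hz : i z = σ j c) : z = CurvSt.markedPt σ hσ hP j := by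
  obtain ⟨p, hp1, hp2⟩ := Scheme.exists_preimage_of_isPullback (isPullback_fsec σ hσ hP j) c z hz.symm
  have h1 : p = IsLocalRing.closedPoint Ω := Subsingleton.elim _ _
  rw [← hp2, h1]
  rfl

theorem isClosed_markedPt [IsSeparated q] (j : Fin n) : IsClosed ({CurvSt.markedPt σ hσ hP j} : Set X) := by
  have h1 := K130.PtDiv.isClosedImmersion_sect q (fsec σ hσ hP j) (fsec_q σ hσ hP j)
  have h2 := (fsec σ hσ hP j).isClosedEmbedding.isClosed_range
  have h3 : Set.range (fsec σ hσ hP j) = {CurvSt.markedPt σ hσ hP j} := by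
    ext z
    constructor
    · rintro ⟨c, rfl⟩
      have h4 : c = IsLocalRing.closedPoint Ω := Subsingleton.elim _ _
      rw [h4]
      rfl
    · rintro rfl
      exact ⟨_, rfl⟩
  rwa [h3] at h2

end K130.MarkFib
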