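import Groth.Agent.Fano.K130.Avoid
import Groth.Agent.Fano.K130.MarkFib
import Groth.Agent.Fano.K130.ConstP1
import Groth.Agent.Smoothlim.SmoothLocusBC

/-!
# Three sections of a generated invertible module on a reduced proper curve over an algebraically closed field

* `exists_data`: three sections with disjoint finite sets of zeros, and the list of the zeros with the multiplicities;
* `exists_zero`: a section of the pullback of `O(1)` has a zero on every component which is not contracted;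
* `isStableFam`: adding these zeros to a stable map of genus zero gives a stable curve.
-/

set_option autoImplicit false

universe u

open CategoryTheory CategoryTheory.Limits AlgebraicGeometry TopologicalSpace Opposite

namespace K130.MarkData

open Groth.Agent Groth.Agent.Fdesc.LocGen K390.PnSec K188.MapP1 K130.StIdeal K130.MarkFib

section Data

variable {Ω : Type u} [Field Ω] [IsAlgClosed Ω] {C : Scheme.{u}}

/-- The set where the section does not generate. -/
def zer {L : C.Modules} (s : Γ(L, ⊤)) : Set C := {x | x ∉ gl s}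

/-- Three sections with disjoint sets of zeros. -/
theorem exists_three (f : C ⟶ Spec (CommRingCat.of Ω)) [IsProper f] [LocallyOfFinitePresentation f] [IsReduced C]
    (hdim : topologicalKrullDim C ≤ 1) {L : C.Modules} (hL : PicF.IsInvertible L)
    (hg : ∀ x : C, ∃ t : Γ(L, ⊤), x ∈ gl t) (Z : Set C) (hZ : Z.Finite) :
    ∃ s : Fin 3 → Γ(L, ⊤), (∀ i, (zer (s i)).Finite) ∧ (∀ i, ∀ x ∈ zer (s i), IsClosed ({x} : Set C)) ∧
      (∀ i, ∀ x ∈ zer (s i), x ∈ f.smoothLocus ∧ x ∉ Z) ∧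
      (∀ i i', i ≠ i' → ∀ x ∈ zer (s i), x ∉ zer (s i')) ∧
      ∀ i, ∀ x ∈ f.smoothLocus, ∃ a : ℕ, St (s i) x (IsLocalRing.maximalIdeal (C.presheaf.stalk x) ^ a) := by
  let iC : C.Over (Spec (CommRingCat.of Ω)) := ⟨f⟩
  have h1 : LocallyOfFiniteType (C ↘ Spec (CommRingCat.of Ω)) := inferInstanceAs (LocallyOfFiniteType f)
  have h2 : LocallyOfFinitePresentation (C ↘ Spec (CommRingCat.of Ω)) := ‹LocallyOfFinitePresentation f›
  have h3 : IsLocallyNoetherian C := LocallyOfFiniteType.isLocallyNoetherian f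
  have h4 : CompactSpace C := QuasiCompact.compactSpace_of_compactSpace f
  have h5 : IsNoetherian C := { }
  obtain ⟨s₀, a1, a2, a3, a4, a5⟩ := Avoid.exists_avoid Ω hdim hL hg Z hZ
  obtain ⟨s₁, b1, b2, b3, b4, b5⟩ := Avoid.exists_avoid Ω hdim hL hg (Z ∪ zer s₀) (hZ.union a2)
  obtain ⟨s₂, c1, c2, c3, c4, c5⟩ := Avoid.exists_avoid Ω hdim hL hg (Z ∪ zer s₀ ∪ zer s₁) ((hZ.union a2).union b2)
  have h01 : ∀ x ∈ zer s₀, x ∉ zer s₁ := fun x hx h => h (b1 (Or.inr hx))
  have h02 : ∀ x ∈ zer s₀, x ∉ zer s₂ := fun x hx h => h (c1 (Or.inl (Or.inr hx)))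
  have h12 : ∀ x ∈ zer s₁, x ∉ zer s₂ := fun x hx h => h (c1 (Or.inr hx))
  refine ⟨![s₀, s₁, s₂], ?_, ?_, ?_, ?_, ?_⟩
  · intro i
    fin_cases i
    exacts [a2, b2, c2]
  · intro i
    fin_cases i
    exacts [a3, b3, c3]
  · intro i
    fin_cases i
    · exact fun x hx => ⟨a4 x hx, fun h => hx (a1 h)⟩
    · exact fun x hx => ⟨b4 x hx, fun h => hx (b1 (Or.inl h))⟩
    · exact fun x hx => ⟨c4 x hx, fun h => hx (c1 (Or.inl (Or.inl h)))⟩
  · intro i i' hii
    fin_cases i <;> fin_cases i'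
    · exact absurd rfl hii
    · exact h01
    · exact h02
    · exact fun x hx h => h01 x h hx
    · exact absurd rfl hii
    · exact h12
    · exact fun x hx h => h02 x h hx
    · exact fun x hx h => h12 x h hx
    · exact absurd rfl hii
  · intro i
    fin_cases i
    exacts [a5, b5, c5]

/-- Three sections, the list of their zeros and the multiplicities. -/
theorem exists_data (f : C ⟶ Spec (CommRingCat.of Ω)) [IsProper f] [LocallyOfFinitePresentation f] [IsReduced C]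
    (hdim : topologicalKrullDim C ≤ 1) {L : C.Modules} (hL : PicF.IsInvertible L)
    (hg : ∀ x : C, ∃ t : Γ(L, ⊤), x ∈ gl t) (Z : Set C) (hZ : Z.Finite) :
    ∃ (m : ℕ) (y : Fin m → (Spec (CommRingCat.of Ω) ⟶ C)) (s : Fin 3 → Γ(L, ⊤)) (a : Fin 3 → Fin m → ℕ),
      (∀ j, y j ≫ f = 𝟙 _) ∧ Function.Injective (fun j => y j (IsLocalRing.closedPoint Ω)) ∧
      (∀ j, y j (IsLocalRing.closedPoint Ω) ∈ f.smoothLocus) ∧ (∀ j, y j (IsLocalRing.closedPoint Ω) ∉ Z) ∧
      (∀ j, ∃ i, y j (IsLocalRing.closedPoint Ω) ∈ zer (s i)) ∧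
      (∀ i, ∀ x ∈ zer (s i), ∃ j, y j (IsLocalRing.closedPoint Ω) = x) ∧
      (∀ i i', i ≠ i' → ∀ x ∈ zer (s i), x ∉ zer (s i')) ∧
      ∀ i j, St (s i) (y j (IsLocalRing.closedPoint Ω))
        (IsLocalRing.maximalIdeal (C.presheaf.stalk (y j (IsLocalRing.closedPoint Ω))) ^ a i j) := by
  obtain ⟨s, h1, h2, h3, h4, h5⟩ := exists_three f hdim hL hg Z hZ
  have hW : (⋃ i, zer (s i)).Finite := Set.finite_iUnion h1
  have := hW.to_subtype
  obtain ⟨m, ⟨e⟩⟩ := Finite.exists_equiv_fin ↥(⋃ i, zer (s i))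
  have hcl : ∀ x ∈ ⋃ i, zer (s i), IsClosed ({x} : Set C) := by
    intro x hx
    obtain ⟨i, hi⟩ := Set.mem_iUnion.1 hx
    exact h2 i x hi
  let y : Fin m → (Spec (CommRingCat.of Ω) ⟶ C) := fun j => pointOfClosedPoint f (e.symm j).1 (hcl _ (e.symm j).2)
  have hy : ∀ j, y j (IsLocalRing.closedPoint Ω) = (e.symm j).1 := fun j => pointOfClosedPoint_apply _ _ _ _
  have hys : ∀ j, y j (IsLocalRing.closedPoint Ω) ∈ f.smoothLocus := by
    intro j
    rw [hy]
    obtain ⟨i, hi⟩ := Set.mem_iUnion.1 (e.symm j).2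
    exact (h3 i _ hi).1
  choose a ha using fun i j => h5 i _ (hys j)
  refine ⟨m, y, s, a, fun j => pointOfClosedPoint_comp _ _ _, ?_, hys, ?_, ?_, ?_, h4, ha⟩
  · intro j j' hjj
    simp only [hy] at hjj
    exact e.symm.injective (Subtype.ext hjj)
  · intro j
    rw [hy]
    obtain ⟨i, hi⟩ := Set.mem_iUnion.1 (e.symm j).2
    exact (h3 i _ hi).2
  · intro j
    rw [hy]
    exact Set.mem_iUnion.1 (e.symm j).2
  · intro i x hx
    refine ⟨e ⟨x, Set.mem_iUnion.2 ⟨i, hx⟩⟩, ?_⟩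
    rw [hy, Equiv.symm_apply_apply]

end Data

section Stable

variable {k Ω : Type u} [Field k] [Field Ω] [IsAlgClosed Ω] {C Y : Scheme.{u}} {n r m : ℕ}
  {f : C ⟶ Spec (CommRingCat.of Ω)} {μ : C ⟶ Y} {ι : Y ⟶ CohB1.ProjSpace n k}
  {τ : Spec (CommRingCat.of Ω) ⟶ Spec (CommRingCat.of k)}

/-- A section of the pullback of `O(1)` has a zero on every component which is not contracted. -/
theorem exists_zero (hι : Function.Injective ι) (hτ : (μ ≫ ι) ≫ CohB1.ProjSpace.toSpec n k = f ≫ τ)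
    (s : Γ((Scheme.Modules.pullback (μ ≫ ι)).obj (O1 n k), ⊤)) {Ω' : Type u} [Field Ω']
    {t : Spec (CommRingCat.of Ω') ⟶ Spec (CommRingCat.of Ω)} {X : Scheme.{u}} {i : X ⟶ C}
    {q : X ⟶ Spec (CommRingCat.of Ω')} (hP : IsPullback i q f t) {E : Set X} (hE : CurvSt.IsSmRatComp Ω' X q E)
    (hns : ¬ ((i ≫ μ).base '' E).Subsingleton) : ∃ z ∈ E, i z ∈ zer s := by
  by_contra hcon
  push Not at hcon
  obtain ⟨-, e, -, he2, he3⟩ := hE
  apply hns
  let g : CohB1.ProjSpace 1 Ω' ⟶ CohB1.ProjSpace n k := (e ≫ i) ≫ (μ ≫ ι)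
  have hM : PicF.IsInvertible ((Scheme.Modules.pullback (μ ≫ ι)).obj (O1 n k)) :=
    isInvertible_pullback _ (isInvertible_O1 n k)
  have h1 : gl (pullTop (e ≫ i) s) = ⊤ := by
    have h0 : gl (pullTop (e ≫ i) s) = (e ≫ i) ⁻¹ᵁ gl s := genLocus_pullTop (e ≫ i) hM s
    rw [h0, eq_top_iff]
    intro p _
    have h2 : e p ∈ E := by
      rw [← he3]
      exact ⟨p, rfl⟩
    have h3 := hcon (e p) h2
    change (e ≫ i) p ∈ gl s
    rw [Scheme.Hom.comp_apply]
    by_contra h4
    exact h3 h4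
  have h2 : IsGen (pullTop (e ≫ i) s) := by
    have h3 := (le_gl_iff (pullTop (e ≫ i) s) ⊤).1 h1.ge
    rwa [res_refl] at h3
  let θ := (Scheme.Modules.pullbackComp (e ≫ i) (μ ≫ ι)).app (O1 n k)
  have h3 : IsGen (θ.hom.app ⊤ (pullTop (e ≫ i) s)) := h2.app θ.hom
  have h4 : g ≫ CohB1.ProjSpace.toSpec n k = CohB1.ProjSpace.toSpec 1 Ω' ≫ (t ≫ τ) := by
    change ((e ≫ i) ≫ (μ ≫ ι)) ≫ CohB1.ProjSpace.toSpec n k = _
    rw [Category.assoc, hτ, Category.assoc, reassoc_of% hP.w, reassoc_of% he2]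
  have h5 := ConstP1.range_subsingleton g (t ≫ τ) h4 _ h3
  rintro _ ⟨x, hx, rfl⟩ _ ⟨x', hx', rfl⟩
  rw [← he3] at hx hx'
  obtain ⟨p, rfl⟩ := hx
  obtain ⟨p', rfl⟩ := hx'
  apply hι
  have h6 := h5 ⟨p, rfl⟩ ⟨p', rfl⟩
  exact h6

/-- Adding the zeros of three sections of the pullback of `O(1)` to a stable map gives a stable curve. -/
theorem isStableFam (hι : Function.Injective ι) (hτ : (μ ≫ ι) ≫ CohB1.ProjSpace.toSpec n k = f ≫ τ)
    (σ : Fin r → (Spec (CommRingCat.of Ω) ⟶ C)) (hσ : ∀ j, σ j ≫ f = 𝟙 _)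
    (hst : StMap.IsStableMapFam f σ hσ μ 0) [LocallyOfFinitePresentation f]
    (y : Fin m → (Spec (CommRingCat.of Ω) ⟶ C)) (hy : ∀ j, y j ≫ f = 𝟙 _)
    (s : Fin 3 → Γ((Scheme.Modules.pullback (μ ≫ ι)).obj (O1 n k), ⊤))
    (hinj : Function.Injective (fun j => y j (IsLocalRing.closedPoint Ω)))
    (hsm : ∀ j, y j (IsLocalRing.closedPoint Ω) ∈ f.smoothLocus)
    (hav : ∀ j l, y j (IsLocalRing.closedPoint Ω) ≠ σ l (IsLocalRing.closedPoint Ω))
    (hz : ∀ i, ∀ x ∈ zer (s i), ∃ j, y j (IsLocalRing.closedPoint Ω) = x)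
    (hdis : ∀ i i', i ≠ i' → ∀ x ∈ zer (s i), x ∉ zer (s i')) (hne : ∀ i, (zer (s i)).Nonempty)
    (h : ∀ j, (Fin.addCases σ y : Fin (r + m) → (Spec (CommRingCat.of Ω) ⟶ C)) j ≫ f = 𝟙 _) :
    CurvSt.IsStableFam f (Fin.addCases σ y : Fin (r + m) → (Spec (CommRingCat.of Ω) ⟶ C)) h 0 := by
  refine ⟨hst.1, hst.2.1, hst.2.2.1, fun Ω' _ _ t X i q hP => ?_⟩
  obtain ⟨⟨h1, h2, h3, h4, h5, h6⟩, h7, -⟩ := hst.2.2.2 Ω' t X i q hP
  have hpt : ∀ c : Spec (CommRingCat.of Ω), c = IsLocalRing.closedPoint Ω := fun c => Subsingleton.elim _ _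
  have hl : ∀ l : Fin r, CurvSt.markedPt (Fin.addCases σ y : Fin (r + m) → (Spec (CommRingCat.of Ω) ⟶ C)) h hP
      (Fin.castAdd m l) = CurvSt.markedPt σ hσ hP l := fun l =>
    markedPt_congr _ _ hP σ hσ (Fin.addCases_left l)
  have hr : ∀ j : Fin m, CurvSt.markedPt (Fin.addCases σ y : Fin (r + m) → (Spec (CommRingCat.of Ω) ⟶ C)) h hP
      (Fin.natAdd r j) = CurvSt.markedPt y hy hP j := fun j =>
    markedPt_congr _ _ hP y hy (Fin.addCases_right j)
  have hil : ∀ l : Fin r, i (CurvSt.markedPt σ hσ hP l) = σ l (IsLocalRing.closedPoint Ω) := by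
    intro l
    rw [apply_markedPt, hpt (t _)]
  have hir : ∀ j : Fin m, i (CurvSt.markedPt y hy hP j) = y j (IsLocalRing.closedPoint Ω) := by
    intro j
    rw [apply_markedPt, hpt (t _)]
  refine ⟨h1, h2, h3, h4, ?_, ?_, ?_, ?_⟩
  · intro a b
    refine Fin.addCases (fun a => ?_) (fun a => ?_) a <;> refine Fin.addCases (fun b => ?_) (fun b => ?_) b
    · intro hab
      rw [hl, hl] at hab
      rw [h5 hab]
    · intro hab
      rw [hl, hr] at hab
      have h8 := congrArg i hab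
      rw [hil, hir] at h8
      exact absurd h8.symm (hav b a)
    · intro hab
      rw [hr, hl] at hab
      have h8 := congrArg i hab
      rw [hil, hir] at h8
      exact absurd h8 (hav a b)
    · intro hab
      rw [hr, hr] at hab
      have h8 := congrArg i hab
      rw [hir, hir] at h8
      rw [hinj h8]
  · intro a
    refine Fin.addCases (fun a => ?_) (fun a => ?_) a
    · rw [hl]
      exact h6 a
    · rw [hr]
      refine ⟨isClosed_markedPt y hy hP a, ?_⟩
      have hlfp : LocallyOfFinitePresentation q := MorphismProperty.of_isPullback hP inferInstance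
      have h8 : CurvSt.markedPt y hy hP a ∈ q.smoothLocus := by
        rw [Groth.Agent.Smoothlim.SmoothLocusBC.mem_smoothLocus_iff_of_isPullback hP _ (Or.inr inferInstance), hir]
        exact hsm a
      refine ⟨q.smoothLocus, h8, ?_⟩
      rw [← Scheme.Hom.smoothLocus_eq_top_iff, ← Scheme.Hom.preimage_smoothLocus_eq]
      exact Scheme.Opens.ι_preimage_self _
  · intro E hE
    by_cases hns : ((i ≫ μ).base '' E).Subsingleton
    · refine (h7 E hE hns).trans ?_
      gcongr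
      refine Nat.card_le_card_of_injective
        (fun l : {l : Fin r // CurvSt.markedPt σ hσ hP l ∈ E} => ⟨Fin.castAdd m l.1, by rw [hl]; exact l.2⟩) ?_
      intro a b hab
      exact Subtype.ext (Fin.castAdd_injective r m (congrArg Subtype.val hab))
    · choose z hzE hz0 using fun i₀ => exists_zero hι hτ (s i₀) hP hE hns
      choose j hj using fun i₀ => hz i₀ _ (hz0 i₀)
      have h8 : ∀ i₀, z i₀ = CurvSt.markedPt y hy hP (j i₀) := fun i₀ =>
        eq_markedPt y hy hP (j i₀) (c := IsLocalRing.closedPoint Ω) (hj i₀).symm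
      have h9 : ∀ i₀, CurvSt.markedPt (Fin.addCases σ y : Fin (r + m) → (Spec (CommRingCat.of Ω) ⟶ C)) h hP
          (Fin.natAdd r (j i₀)) ∈ E := fun i₀ => by
        rw [hr, ← h8]
        exact hzE i₀
      have h10 := Nat.card_le_card_of_injective (fun i₀ : Fin 3 => (⟨Fin.natAdd r (j i₀), h9 i₀⟩ : {l : Fin (r + m) //
        CurvSt.markedPt (Fin.addCases σ y : Fin (r + m) → (Spec (CommRingCat.of Ω) ⟶ C)) h hP l ∈ E})) (by
          intro a b hab
          by_contra hne'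
          have h11 : j a = j b := Fin.natAdd_injective m r (congrArg Subtype.val hab)
          have h12 : i (z a) = i (z b) := by rw [← hj a, ← hj b, h11]
          exact hdis a b hne' _ (hz0 a) (h12 ▸ hz0 b))
      rw [Nat.card_eq_fintype_card, Fintype.card_fin] at h10
      calc (3 : ℕ∞) = ((3 : ℕ) : ℕ∞) := rfl
        _ ≤ _ := by exact_mod_cast h10
        _ ≤ _ := le_add_self
  · choose x hx using hne
    choose j hj using fun i₀ => hz i₀ _ (hx i₀)
    have h10 := Nat.card_le_card_of_injective (fun i₀ : Fin 3 => j i₀) (by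
      intro a b hab
      by_contra hne'
      have h12 : x a = x b := by rw [← hj a, ← hj b]; exact congrArg (fun l => y l (IsLocalRing.closedPoint Ω)) hab
      exact hdis a b hne' _ (hx a) (h12 ▸ hx b))
    rw [Nat.card_eq_fintype_card, Fintype.card_fin, Nat.card_eq_fintype_card, Fintype.card_fin] at h10
    omega

end Stable

end K130.MarkData
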