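import Groth.Agent.Fano.K130.MarkData
import Groth.Agent.CurvSt.K903.Facts
import Groth.Agent.CurvesC.DegIso

/-!
# Markings of a stable map of genus zero over an algebraically closed field (S16940, node M1)

* `exists_marks`: three hyperplane sections of a stable map with disjoint supports, away from the nodes and the marked points.
-/

set_option autoImplicit false

universe u

open CategoryTheory CategoryTheory.Limits AlgebraicGeometry TopologicalSpace Opposite

namespace K130.Marks

open K390.PnSec Groth.Agent.Fdesc.LocGen K188.LineDef K745.ConDef K505.KonDef K723.LinDef W4swstmapratcurves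
open K188.MapP1 K130.StIdeal K130.MarkData

/-- The degree of a module with a generator is zero. -/
theorem deg_eq_zero {Ω : Type u} [Field Ω] {X : Scheme.{u}} [X.Over (Spec (CommRingCat.of Ω))] {L : X.Modules}
    (h : Nonempty (L ≅ Coh.structureModule X)) : Curv2.deg Ω X L 1 = 0 := by
  obtain ⟨e⟩ := h
  rw [Groth.Agent.CurvesC.DegIso.deg_congr Ω e 1]
  unfold Curv2.deg
  push_cast
  ring

variable {k : Type u} [Field k] {n d r e : ℕ} {G : LefPen.Form n k d}

/-- Node M1: three hyperplane sections of a stable map over an algebraically closed field, with disjoint supports, away from the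
nodes and the marked points; `y` is the list of their points, `a i j` the multiplicities. -/
theorem exists_marks (A : (Mst G r e).obj) {Ω : Type u} [Field Ω] [IsAlgClosed Ω]
    (s : Spec (CommRingCat.of Ω) ⟶ Spec (CommRingCat.of k)) (hA : A.obj.base = Over.mk s) (hr : 1 ≤ e) :
    ∃ (m : ℕ) (y : Fin m → (A.obj.base.left ⟶ A.obj.C)) (hy : ∀ j, y j ≫ A.obj.f = 𝟙 A.obj.base.left)
      (a : Fin 3 → Fin m → ℕ),
      CurvSt.IsStableFam (addM A.obj.toPtFamObj y hy).f (addM A.obj.toPtFamObj y hy).sect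
        (addM A.obj.toPtFamObj y hy).sect_f 0 ∧
      (∀ j, ∃ i, 0 < a i j) ∧
      ∀ i, ∃ s : Γ((Scheme.Modules.pullback (A.obj.map ≫ (LefPen.hypIdeal G).subschemeι)).obj (O1 n k), ⊤),
        IsO (dI y (a i)) _ s := by
  obtain ⟨⟨⟨base, C, f, sect, sect_f⟩, map, map_over⟩, hA1, hA2⟩ := A
  dsimp only at hA
  subst hA
  have hsq : IsPullback (𝟙 C) f f (𝟙 (Spec (CommRingCat.of Ω))) :=
    @IsPullback.of_horiz_isIso _ _ _ _ _ _ (𝟙 C) f f (𝟙 (Spec (CommRingCat.of Ω))) (IsIso.id C)
      (IsIso.id (Spec (CommRingCat.of Ω))) ⟨(Category.id_comp f).trans (Category.comp_id f).symm⟩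
  obtain ⟨⟨h1, h2, h3, ⟨h4, -⟩, -, -⟩, -, -⟩ := hA1.2.2.2 Ω (𝟙 _) C (𝟙 C) f hsq
  have hdeg := hA2 Ω (𝟙 _) C (𝟙 C) f hsq
  have hlfp : LocallyOfFinitePresentation f := hA1.2.2.1
  have hred : IsReduced C := by
    let iC : C.Over (Spec (CommRingCat.of Ω)) := ⟨f⟩
    have : IsProper (C ↘ Spec (CommRingCat.of Ω)) := h1
    exact K903.Facts.isReduced Ω C h4
  let ι := (LefPen.hypIdeal G).subschemeι
  have hM : PicF.IsInvertible ((Scheme.Modules.pullback (map ≫ ι)).obj (O1 n k)) :=
    isInvertible_pullback _ (isInvertible_O1 n k)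
  have hg : ∀ x : C, ∃ t : Γ((Scheme.Modules.pullback (map ≫ ι)).obj (O1 n k), ⊤), x ∈ gl t := by
    intro x
    have h5 := (GivenBy.refl (map ≫ ι)).iSup_genLocus.ge (show x ∈ (⊤ : C.Opens) from trivial)
    rw [Opens.mem_iSup] at h5
    obtain ⟨i, hi⟩ := h5
    exact ⟨_, hi⟩
  obtain ⟨m, y, s', a, hy, hinj, hsm, hav, hyz, hz, hdis, hst⟩ := exists_data f h3.le hM hg
    (Set.range fun l => sect l (IsLocalRing.closedPoint Ω)) (Set.finite_range _)
  refine ⟨m, y, hy, a, ?_, ?_, ?_⟩
  · refine isStableFam (ι := ι) (τ := s) ?_ ?_ sect sect_f hA1 y hy s' hinj hsm (fun j l hjl => hav j ⟨l, hjl.symm⟩)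
      hz hdis ?_ _
    · exact ι.isClosedEmbedding.injective
    · rw [Category.assoc]
      exact map_over
    · intro i
      by_contra hcon
      rw [Set.not_nonempty_iff_eq_empty] at hcon
      have h6 : gl (s' i) = ⊤ := by
        rw [eq_top_iff]
        intro x _
        by_contra h7
        have h8 : x ∈ zer (s' i) := h7
        rw [hcon] at h8
        exact h8
      have h7 : IsGen (s' i) := by
        have h8 := (le_gl_iff (s' i) ⊤).1 h6.ge
        rwa [res_refl] at h8
      obtain ⟨θ, -⟩ := K188.LinFun.exists_iso_of_isGen h7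
      let iC : C.Over (Spec (CommRingCat.of Ω)) := ⟨f⟩
      have h9 : Curv2.deg Ω C ((Scheme.Modules.pullback (𝟙 C ≫ map)).obj (hypO1 G)) 1 = 0 := by
        refine deg_eq_zero ⟨?_ ≪≫ θ⟩
        exact (Scheme.Modules.pullbackComp (𝟙 C ≫ map) ι).app (O1 n k) ≪≫
          (Scheme.Modules.pullbackCongr (by rw [Category.id_comp])).app (O1 n k)
      have h10 : Curv2.deg Ω C ((Scheme.Modules.pullback (𝟙 C ≫ map)).obj (hypO1 G)) 1 = e := hdeg
      rw [h9] at h10
      omega
  · intro j
    obtain ⟨i, hi⟩ := hyz j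
    refine ⟨i, Nat.pos_of_ne_zero fun h0 => hi ?_⟩
    have h6 := hst i j
    rw [h0, pow_zero, Ideal.one_eq_top] at h6
    exact (st_top_iff hM h6).1 rfl
  · intro i
    exact ⟨s' i, PtDiv.isO_dI f y hy (IsLocalRing.closedPoint Ω) hinj hM (fun x hx => hz i x hx) (a i) (hst i)⟩

end K130.Marks
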