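import Groth.Agent.Fano.K723.LinDef
import Groth.Agent.Fano.K188.MapP1
import Groth.Agent.Divis.CartierBasic
import Mathlib.RingTheory.DiscreteValuationRing.TFAE

/-!
# The ideal of the zeros of a section of an invertible module, on stalks

* `St s x J`: the ideal `J` of the stalk at `x` is generated by the section `s`;
* `exists_st`: existence; `St.unique`: uniqueness;
* `st_top_iff`: `J = ⊤` iff `s` generates at `x`;
* `isO_of_st`: `(L, s)` is `(O(D), 1)` as soon as the stalks of `D` are generated by `s`;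
* `exists_pow`: at a point whose local ring is a principal ideal domain the ideal is a power of the maximal ideal, if `s`
  generates at a generization.
-/

set_option autoImplicit false

universe u

open CategoryTheory CategoryTheory.Limits AlgebraicGeometry TopologicalSpace Opposite

namespace K130.StIdeal

open Groth.Agent Groth.Agent.Fdesc.LocGen Groth.Agent.Divis.CartierBasic K188.MapP1 K723.LinDef

variable {X : Scheme.{u}} {L : X.Modules}

theorem germ_ores {V W : X.Opens} (h : W ≤ V) (x : X) (hx : x ∈ W) (b : Γ(X, V)) :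
    X.presheaf.germ W x hx (ores h b) = X.presheaf.germ V x (h hx) b :=
  TopCat.Presheaf.germ_res_apply X.presheaf (homOfLE h) x hx b

/-- The ideal `J` of the stalk is generated by the section `s`. -/
def St (s : Γ(L, ⊤)) (x : X) (J : Ideal (X.presheaf.stalk x)) : Prop :=
  ∀ (V : X.Opens) (hx : x ∈ V) (e : Γ(L, V)) (b : Γ(X, V)), IsGen e → res L le_top s = b • e →
    J = Ideal.span {X.presheaf.germ V x hx b}

theorem st_of_one (s : Γ(L, ⊤)) {x : X} {V₀ : X.Opens} (hx₀ : x ∈ V₀) {e₀ : Γ(L, V₀)} {b₀ : Γ(X, V₀)} (he₀ : IsGen e₀)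
    (h₀ : res L le_top s = b₀ • e₀) : St s x (Ideal.span {X.presheaf.germ V₀ x hx₀ b₀}) := by
  intro V hx e b he h
  let W : X.Opens := V ⊓ V₀
  have h1 : W ≤ V := inf_le_left
  have h2 : W ≤ V₀ := inf_le_right
  have hxW : x ∈ W := ⟨hx, hx₀⟩
  obtain ⟨a, ha, hab⟩ := (he.res h1).exists_unit (he₀.res h2)
  have h3 : ores h1 b • res L h1 e = (ores h2 b₀ * a) • res L h1 e := by
    rw [mul_smul, ← hab, ← res_smul, ← res_smul, ← h, ← h₀, res_res, res_res]
  have h4 : ores h1 b = ores h2 b₀ * a := (he.res h1).ext h3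
  have h5 : X.presheaf.germ V x hx b = X.presheaf.germ V₀ x hx₀ b₀ * X.presheaf.germ W x hxW a := by
    rw [← germ_ores h1 x hxW, h4, map_mul, germ_ores]
  rw [h5, Ideal.span_singleton_mul_right_unit (ha.map _)]

theorem exists_st (hL : PicF.IsInvertible L) (s : Γ(L, ⊤)) (x : X) : ∃ J, St s x J := by
  obtain ⟨V, e, hx, he⟩ := (isInvertible_iff L).1 hL x
  obtain ⟨b, hb⟩ := he.exists_eq (res L le_top s)
  exact ⟨_, st_of_one s hx he hb⟩

theorem St.unique (hL : PicF.IsInvertible L) {s : Γ(L, ⊤)} {x : X} {J J' : Ideal (X.presheaf.stalk x)} (h : St s x J)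
    (h' : St s x J') : J = J' := by
  obtain ⟨V, e, hx, he⟩ := (isInvertible_iff L).1 hL x
  obtain ⟨b, hb⟩ := he.exists_eq (res L le_top s)
  exact (h V hx e b he hb).trans (h' V hx e b he hb).symm

theorem st_top_iff (hL : PicF.IsInvertible L) {s : Γ(L, ⊤)} {x : X} {J : Ideal (X.presheaf.stalk x)} (h : St s x J) :
    J = ⊤ ↔ x ∈ gl s := by
  obtain ⟨V, e, hx, he⟩ := (isInvertible_iff L).1 hL x
  obtain ⟨b, hb⟩ := he.exists_eq (res L le_top s)
  rw [mem_gl_iff he hb hx, Scheme.mem_basicOpen _ _ _ hx, h V hx e b he hb, Ideal.span_singleton_eq_top]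

/-- `(L, s)` is `(O(D), 1)` as soon as the stalks of `D` are generated by `s`. -/
theorem isO_of_st {D : X.IdealSheafData} (hL : PicF.IsInvertible L) {s : Γ(L, ⊤)}
    (h : ∀ x : X, St s x (stalkIdeal D x)) : IsO D L s := by
  refine ⟨hL, fun V e b he hs => ?_⟩
  have h1 : ∀ x (hx : x ∈ V.1), (D.ideal V).map (X.presheaf.germ V.1 x hx).hom =
      (Ideal.span {b}).map (X.presheaf.germ V.1 x hx).hom := by
    intro x hx
    rw [← stalkIdeal_eq D V hx, h x V.1 hx e b he hs, Ideal.map_span, Set.image_singleton]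
  apply le_antisymm
  · rw [V.2.ideal_le_iff]
    intro x hx
    exact (h1 x hx).le
  · rw [V.2.ideal_le_iff]
    intro x hx
    exact (h1 x hx).ge

/-- At a point whose local ring is a principal ideal domain the ideal of a section is a power of the maximal ideal, if the
section generates at a generization. -/
theorem exists_pow (hL : PicF.IsInvertible L) {s : Γ(L, ⊤)} {x η : X} (hη : η ⤳ x) (hs : η ∈ gl s)
    [IsDomain (X.presheaf.stalk x)] [IsPrincipalIdealRing (X.presheaf.stalk x)] :
    ∃ a : ℕ, St s x (IsLocalRing.maximalIdeal (X.presheaf.stalk x) ^ a) := by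
  obtain ⟨V, e, hx, he⟩ := (isInvertible_iff L).1 hL x
  obtain ⟨b, hb⟩ := he.exists_eq (res L le_top s)
  have hηV : η ∈ V := hη.mem_open V.2 hx
  have h1 : X.presheaf.germ V x hx b ≠ 0 := by
    intro h0
    have h2 : X.presheaf.stalkSpecializes hη (X.presheaf.germ V x hx b) = X.presheaf.germ V η hηV b :=
      TopCat.Presheaf.germ_stalkSpecializes_apply _ _ _ _
    rw [h0, map_zero] at h2
    rw [mem_gl_iff he hb hηV, Scheme.mem_basicOpen _ _ _ hηV, ← h2] at hs
    exact not_isUnit_zero hs
  obtain ⟨a, ha⟩ := exists_maximalIdeal_pow_eq_of_principal (X.presheaf.stalk x)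
    (IsPrincipalIdealRing.principal _) (Ideal.span {X.presheaf.germ V x hx b}) (by
      rwa [Ne, Ideal.span_singleton_eq_bot])
  exact ⟨a, ha ▸ st_of_one s hx he hb⟩

end K130.StIdeal
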